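import Cfsg.Agent.H61.K6.CritD_m3
import Cfsg.Agent.HN.AutHS
import Cfsg.Agent.FastGrp
import Cfsg.Agent.Prune
set_option linter.all false
prune_inst 0x7f00000000000000000000000000000000000000000000000000000000000000000000000000000000000000000000000000000000000000000000000000000000000000000000000000000000000000003fffffffffffffffffffffffffffbeffbdffffffff
open scoped Cfsg.Agent.FastGrp

/-!
# S4876, `p = 5`: the row of the Higman-Sims group (helper121)

`xA`, `xB`, `xC` of order 5 in the group `Q` on 100 points, `50`, `0`, `10` points are joined to their images (an invariant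
of `Aut Q`, `H.N.AutHS.exists_perm`); `C(xA)` and `C(xB)` have an element of order 5 inverted by an involution.
-/

set_option autoImplicit false

open Cfsg

namespace Cfsg.Agent.H121.K6.HS

open Cfsg.Agent.H61.K6 Cfsg.Agent.SporadicA.PermTab Cfsg.Agent.HN.HS100 Cfsg.Agent.HN.SrgHS Cfsg.Agent.HN.AutBound
open Cfsg.Agent.HN.AutHS Equiv

noncomputable section

def txA : ℕ := 0x201002700c04c0e40d03d0a61540302d00e06c1905908c0b00480504e0bc010250c011c1f84402c0d01505a0961601a82b0b815c0981909a1440501c0300c00401e094120078620a00e80082106c0542f0040a40f8090290861582786306616c0b8280621041d82008a07c0e8110920382a03704402c210230980900185d0be0503080005c0f006838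
def ixA : ℕ := 0x400c00284b00e0a40403f03c1102a04207c0882d0110b609c1d02f0421841d80b0860cc0983209414c0b8480460340d0620920982e0020320b82f0000200ac2084603e1540d83609c00c2c0520801141201c09e17c2600a01803c1601802c0d00a8380ac1741e03703a11c1500607a0940a0630620480086001c0e4288350ae1642802801213416804
def tyA : ℕ := 0x480dc1780709a0202984b0c40442285a0320342a01708009c048610421400703f0ae07c118060660ac1101407c1101a0180860f03004c0241442e8380bc18c0f03602c1642c01000a0e82a8520401581a82809e0082e04104c0041600a08e0c01881c0841181283901e1280d8150180f40e82905a04c2405f0920680185b0760a82700405c02c19000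
def iyA : ℕ := 0x6c16c2803d0180dc1c825010160190310960a8168550ba0b01d04e04e0142f83c0b80580580d03e0682c84207e06c1205309810c0903e00e0b80c0380c40d01484108e0040e81e0c200c0782108c018080280a408c0c8630921142782b0940d40881c02a0282b8400a80cc0a04401c0ec2d03002e1342b0130040802885e0c01201780401209811000
def tnA : ℕ := 0x681882383d01c0201c84b06e0c42285804a12007817030024138330740582683e0b8014118560c20802c81b07e108120400861303003c07613c2e8380b60d8148630a00882d03003e084168030560181a8280a202c2b8410920c81704605e0400881c0880280c8530a81380a01501801c0e81e0aa17c0681304c0682905e0240a82500405800800800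
def txB : ℕ := 0x3e0f0198260461440201b02c0903104b0840f8268120300b0058070b60b80a8190b41182986008803c0983205a030150050940281283d07e104068390a01201b0280ba0ac0100908e1500400605e0d02183a0200d42c8210340dc2c014070154308290001142f0400b80c4070570be00c110560760783182009809c2901c0220c02481d09c13c0b801
def ixB : ℕ := 0x1a1640e8480260641981709e12c128210280400f02e0920242f03700400c2a80b0b00fc0283605e1280d04705215c1d0180761581e06201e0a01c01f0440d41302a0c21100b006056138218520641040e0340141801e85a0be0441200c0c6038020080b808c2605300216c2682008a1500382708c0541c8420a20f81802d0a00b02005d0240c40001b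
def tyB : ℕ := 0x900a82a058032108018520a60742085d08e16c1b80d04a0780603f0920e0280140080041e82103805c058290341101f062000058140340361581a8260760902d02702410c200150100e42285505a0281181000412c1d0610bc03c1982b0c00881705f0581442b8590120600382f09818c2304f0b80441b0320400c4070130941341e04e03e01418006
def iyB : ℕ := 0x241001201f03808c2c00f0ac0d40c0600320e8160610b61700d04d0200100301304c01c278630ae044168420641782c8310a01042480506e0941704e0aa0341c83c042030050010280741581b0401882203d0680e0298360520782400b0061482d04707610c2f81608c0f81804c0100cc070280440242a05108a0a80b82f02a0000104b0ba09c2503f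
def tnB : ℕ := 0xae0dc0405e0421801481602e114110230c60241502f08c0f81303c0020c81a0360341242501902414c2d00300807c0f03b00a148038500800381000c0c41300584d0381380d8100a80ac0e80a05c1542e81500c144088130b01642f8390841041683306212c2400f0b61701400d04811c128300300e80a03806a0b02b06107a09c1f84308800027802
def txC : ℕ := 0x581682986004a0ac1901d01212c1a80f0740f42a8110c40701e00106c034168570c20382601705e0180384008e0902082907c128000580840dc2b05f0921500a80a04c178108080b60e00d0020500802285d0a00ec020330280fc090270720c4180230a41382305c0b20582401b0a20140804f0260882681901818c2181808802c0f02e0060d01501f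
def ixC : ℕ := 0x1414c258600700c81401805e1880b83c0980e42a8360c206c09827020068068490b40f81b815086064148070120ec208440440fc2b05104c15c0f82e07413c2c8020481740f01d08e010268630bc0042002b0400cc2f8420380381882a0000142e0520280b4060080900581a82301e0842a0110b01282700b00c0d02d83008a118090250060b02803d

theorem cxA : chkInv 100 txA ixA = true := by decide +kernel
theorem rxA : RowsOK 100 adjA txA 0 100 := rowsOK_of_chk (chkInv_lt cxA) (chkInv_inj cxA) (by decide +kernel)
def PxA : Perm (Fin 100) := mkPerm txA ixA cxA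
theorem cyA : chkInv 100 tyA iyA = true := by decide +kernel
theorem ryA : RowsOK 100 adjA tyA 0 100 := rowsOK_of_chk (chkInv_lt cyA) (chkInv_inj cyA) (by decide +kernel)
def PyA : Perm (Fin 100) := mkPerm tyA iyA cyA
theorem cnA : chkInv 100 tnA tnA = true := by decide +kernel
theorem rnA : RowsOK 100 adjA tnA 0 100 := rowsOK_of_chk (chkInv_lt cnA) (chkInv_inj cnA) (by decide +kernel)
def PnA : Perm (Fin 100) := mkPerm tnA tnA cnA
theorem cxB : chkInv 100 txB ixB = true := by decide +kernel
theorem rxB : RowsOK 100 adjA txB 0 100 := rowsOK_of_chk (chkInv_lt cxB) (chkInv_inj cxB) (by decide +kernel)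
def PxB : Perm (Fin 100) := mkPerm txB ixB cxB
theorem cyB : chkInv 100 tyB iyB = true := by decide +kernel
theorem ryB : RowsOK 100 adjA tyB 0 100 := rowsOK_of_chk (chkInv_lt cyB) (chkInv_inj cyB) (by decide +kernel)
def PyB : Perm (Fin 100) := mkPerm tyB iyB cyB
theorem cnB : chkInv 100 tnB tnB = true := by decide +kernel
theorem rnB : RowsOK 100 adjA tnB 0 100 := rowsOK_of_chk (chkInv_lt cnB) (chkInv_inj cnB) (by decide +kernel)
def PnB : Perm (Fin 100) := mkPerm tnB tnB cnB
theorem cxC : chkInv 100 txC ixC = true := by decide +kernel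
theorem rxC : RowsOK 100 adjA txC 0 100 := rowsOK_of_chk (chkInv_lt cxC) (chkInv_inj cxC) (by decide +kernel)
def PxC : Perm (Fin 100) := mkPerm txC ixC cxC

theorem ext_of {g h : Perm (Fin 100)} (H : ∀ i : Fin 100, ((g i : Fin 100) : ℕ) = h i) : g = h :=
  Equiv.ext fun i => Fin.ext (H i)

/-- order 5 -/
theorem pow5 {t i : ℕ} (c : chkInv 100 t i = true) (h : allB (fun j => Nat.beq (lk t (lk t (lk t (lk t (lk t j))))) j) 100 = true) :
    (mkPerm t i c) ^ 5 = 1 := by
  refine ext_of fun j => ?_
  exact Nat.eq_of_beq_eq_true ((allB_iff _ _).1 h j j.2)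

/-- commuting -/
theorem comm {t i t' i' : ℕ} (c : chkInv 100 t i = true) (c' : chkInv 100 t' i' = true)
    (h : allB (fun j => Nat.beq (lk t (lk t' j)) (lk t' (lk t j))) 100 = true) :
    mkPerm t i c * mkPerm t' i' c' = mkPerm t' i' c' * mkPerm t i c := by
  refine ext_of fun j => ?_
  exact Nat.eq_of_beq_eq_true ((allB_iff _ _).1 h j j.2)

theorem sq_one {t : ℕ} (c : chkInv 100 t t = true) : mkPerm t t c * mkPerm t t c = 1 :=
  ext_of fun j => (chkInv_spec c j).2.2.1

theorem mem_of_odd {t i : ℕ} (c : chkInv 100 t i = true) (r : RowsOK 100 adjA t 0 100) (h : (mkPerm t i c) ^ 5 = 1) :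
    mkPerm t i c ∈ Q := by
  rw [mem_Q_iff]
  refine ⟨mkPerm_mem_autG c r, ?_⟩
  have h1 := congrArg Perm.sign h
  rw [map_pow, map_one] at h1
  rcases Int.units_eq_one_or (Perm.sign (mkPerm t i c)) with h2 | h2
  · exact h2
  · rw [h2] at h1
    exact absurd h1 (by decide)

theorem mem_of_inv {t m : ℕ} (c : chkInv 100 t t = true) (r : RowsOK 100 adjA t 0 100)
    (hm : cntB (fun i => cond (Nat.beq (lk t i) i) false true) 100 (4 * m) = true) : mkPerm t t c ∈ Q := by
  rw [mem_Q_iff]
  refine ⟨mkPerm_mem_autG c r, ?_⟩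
  have h2 : (mkPerm t t c).support.card = 4 * m := by
    rw [← card_fin_of_cntB _ 100 (4 * m) hm]
    congr 1
    ext i
    rw [Perm.mem_support, Finset.mem_filter]
    simp only [Finset.mem_univ, true_and]
    rw [ne_eq, Fin.ext_iff, mkPerm_val]
    rcases h : Nat.beq (lk t i) i with _ | _
    · simp only [cond_false, iff_true]
      intro h3
      rw [h3] at h
      simp at h
    · simp only [cond_true]
      have := Nat.eq_of_beq_eq_true h
      simp [this]
  rw [sign_of_involution (sq_one c), h2, show 4 * m / 2 = 2 * m by omega, pow_mul]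
  norm_num

/-- the number of points joined to their image -/
def aj (g : Perm (Fin 100)) : ℕ := (Finset.univ.filter fun i : Fin 100 => ad i (g i) = 1).card

theorem aj_conj {p : Perm (Fin 100)} (hp : p ∈ autG 100 adjA) (g : Perm (Fin 100)) : aj (p * g * p⁻¹) = aj g := by
  unfold aj
  symm
  apply Finset.card_bij (fun i _ => p i)
  · intro i hi
    rw [Finset.mem_filter] at hi ⊢
    refine ⟨Finset.mem_univ _, ?_⟩
    have h1 : (p * g * p⁻¹) (p i) = p (g i) := by
      rw [Perm.mul_apply, Perm.mul_apply, show p⁻¹ (p i) = i from p.symm_apply_apply i]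
    rw [h1, ad_map hp]
    exact hi.2
  · intro i _ j _ h
    exact p.injective h
  · intro j hj
    rw [Finset.mem_filter] at hj
    refine ⟨p⁻¹ j, ?_, p.apply_symm_apply j⟩
    rw [Finset.mem_filter]
    refine ⟨Finset.mem_univ _, ?_⟩
    have h1 := hj.2
    rw [← ad_map hp, show p (p⁻¹ j) = j from p.apply_symm_apply j]
    exact h1

theorem aj_of {t i m : ℕ} (c : chkInv 100 t i = true) (h : cntB (fun i => Nat.beq (bitM 100 adjA i (lk t i)) 1) 100 m = true) :
    aj (mkPerm t i c) = m := by
  rw [← card_fin_of_cntB _ 100 m h]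
  unfold aj
  congr 1
  ext j
  rw [Finset.mem_filter, Finset.mem_filter]
  simp only [Finset.mem_univ, true_and]
  rw [Nat.beq_eq]
  rfl

theorem pxA : PxA ^ 5 = 1 := pow5 cxA (by decide +kernel)
theorem mxA : PxA ∈ Q := mem_of_odd cxA rxA pxA
theorem pyA : PyA ^ 5 = 1 := pow5 cyA (by decide +kernel)
theorem myA : PyA ∈ Q := mem_of_odd cyA ryA pyA
theorem pxB : PxB ^ 5 = 1 := pow5 cxB (by decide +kernel)
theorem mxB : PxB ∈ Q := mem_of_odd cxB rxB pxB
theorem pyB : PyB ^ 5 = 1 := pow5 cyB (by decide +kernel)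
theorem myB : PyB ∈ Q := mem_of_odd cyB ryB pyB
theorem pxC : PxC ^ 5 = 1 := pow5 cxC (by decide +kernel)
theorem mxC : PxC ∈ Q := mem_of_odd cxC rxC pxC
theorem mnA : PnA ∈ Q := mem_of_inv (m := 20) cnA rnA (by decide +kernel)
theorem mnB : PnB ∈ Q := mem_of_inv (m := 25) cnB rnB (by decide +kernel)

theorem ajA : aj PxA = 50 := aj_of cxA (by decide +kernel)
theorem ajB : aj PxB = 0 := aj_of cxB (by decide +kernel)
theorem ajC : aj PxC = 10 := aj_of cxC (by decide +kernel)
theorem cyxA : PyA * PxA = PxA * PyA := comm cyA cxA (by decide +kernel)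
theorem cnxA : PnA * PxA = PxA * PnA := comm cnA cxA (by decide +kernel)
theorem invA : PnA * PyA * PnA⁻¹ = PyA⁻¹ := by
  have h1 : PnA * PyA * PnA * PyA = 1 := by
    refine ext_of fun j => ?_
    revert j
    decide +kernel
  have h2 : PnA⁻¹ = PnA := inv_eq_of_mul_eq_one_left (sq_one cnA)
  rw [h2]
  exact eq_inv_of_mul_eq_one_left h1
theorem neA : PyA ≠ 1 := by
  intro h
  have h1 := congrArg (fun g : Perm (Fin 100) => ((g 1 : Fin 100) : ℕ)) h
  revert h1
  decide +kernel
theorem cyxB : PyB * PxB = PxB * PyB := comm cyB cxB (by decide +kernel)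
theorem cnxB : PnB * PxB = PxB * PnB := comm cnB cxB (by decide +kernel)
theorem invB : PnB * PyB * PnB⁻¹ = PyB⁻¹ := by
  have h1 : PnB * PyB * PnB * PyB = 1 := by
    refine ext_of fun j => ?_
    revert j
    decide +kernel
  have h2 : PnB⁻¹ = PnB := inv_eq_of_mul_eq_one_left (sq_one cnB)
  rw [h2]
  exact eq_inv_of_mul_eq_one_left h1
theorem neB : PyB ≠ 1 := by
  intro h
  have h1 := congrArg (fun g : Perm (Fin 100) => ((g 0 : Fin 100) : ℕ)) h
  revert h1
  decide +kernel
end


def eA : Q := ⟨PxA, mxA⟩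
def eB : Q := ⟨PxB, mxB⟩
def eC : Q := ⟨PxC, mxC⟩

theorem wtA : wt 5 eA = 2 := by
  have := finite_Q
  refine wt_eq_two_of_inv (by norm_num) (by norm_num) (k := 1) (y := (⟨PyA, myA⟩ : Q)) (n := (⟨PnA, mnA⟩ : Q)) ?_ ?_ ?_ ?_ ?_
  · exact Subtype.ext cyxA
  · exact Subtype.ext cnxA
  · exact Subtype.ext pyA
  · exact fun h => neA (congrArg Subtype.val h)
  · exact Subtype.ext invA

theorem wtB : wt 5 eB = 2 := by
  have := finite_Q
  refine wt_eq_two_of_inv (by norm_num) (by norm_num) (k := 1) (y := (⟨PyB, myB⟩ : Q)) (n := (⟨PnB, mnB⟩ : Q)) ?_ ?_ ?_ ?_ ?_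
  · exact Subtype.ext cyxB
  · exact Subtype.ext cnxB
  · exact Subtype.ext pyB
  · exact fun h => neB (congrArg Subtype.val h)
  · exact Subtype.ext invB

universe u

/-- **The row `HS`, `p = 5`.** -/
theorem row_Q : KRow.{u, 0} 5 Q := by
  classical
  have := finite_Q
  have hs := nonempty_Q.2
  have h5 : Fact (Nat.Prime 5) := ⟨Nat.prime_five⟩
  have haut : ∀ (x y : Q) (σ : Q ≃* Q), σ x = y → aj x = aj y := by
    intro x y σ h
    obtain ⟨p, hp, hq⟩ := exists_perm σ
    rw [← h, hq, aj_conj hp]
  have a1 : aj (eA : Perm (Fin 100)) = 50 := ajA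
  have a2 : aj (eB : Perm (Fin 100)) = 0 := ajB
  have a3 : aj (eC : Perm (Fin 100)) = 10 := ajC
  have hAB : eA ≠ eB := fun h => by rw [h, a2] at a1; norm_num at a1
  have hAC : eA ≠ eC := fun h => by rw [h, a3] at a1; norm_num at a1
  have hBC : eB ≠ eC := fun h => by rw [h, a3] at a2; norm_num at a2
  have hne : ∀ {g : Perm (Fin 100)}, aj g ≠ 0 → g ≠ 1 := by
    rintro g h rfl
    apply h
    unfold aj
    rw [Finset.card_eq_zero, Finset.filter_eq_empty_iff]
    intro i _
    rw [Perm.one_apply, ad_self]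
    norm_num
  have hcomm : ∃ a b : Q, a * b ≠ b * a := by
    by_contra hcon
    push Not at hcon
    have h1 := invA
    have h2 : PnA * PyA = PyA * PnA := congrArg Subtype.val (hcon (⟨PnA, mnA⟩ : Q) (⟨PyA, myA⟩ : Q))
    rw [h2, mul_inv_cancel_right] at h1
    have h3 : PyA ^ 2 = 1 := by
      rw [pow_two]
      nth_rewrite 1 [h1]
      exact inv_mul_cancel _
    have h4 := pyA
    have h5 : PyA = 1 := by
      calc PyA = PyA ^ 5 * ((PyA ^ 2) ^ 2)⁻¹ := by group
        _ = 1 := by rw [h4, h3]; simp
    exact neA h5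
  have hX : ¬ HasNormalPComplement 5 Q :=
    not_compl_of_simple hcomm (by rw [card_Q]; norm_num)
  have hel : ∀ {g : Q}, (g : Perm (Fin 100)) ^ 5 = 1 → (g : Perm (Fin 100)) ≠ 1 → El 5 g := by
    intro g h1 h2
    refine ⟨⟨1, ?_⟩, fun h => h2 (by rw [h]; rfl)⟩
    rw [pow_one]
    exact orderOf_eq_prime (Subtype.ext (by simpa using h1)) fun h => h2 (by rw [h]; rfl)
  have hB1 : PxB ≠ 1 := by
    intro h
    have h1 := congrArg (fun g : Perm (Fin 100) => ((g 0 : Fin 100) : ℕ)) h
    revert h1
    decide +kernel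
  refine KRow.of_wt hX {eA, eB, eC} ?_ ?_ ?_
  · intro x hx
    simp only [Finset.mem_insert, Finset.mem_singleton] at hx
    rcases hx with rfl | rfl | rfl
    · exact hel pxA (hne (by rw [a1]; norm_num))
    · exact hel pxB hB1
    · exact hel pxC (hne (by rw [a3]; norm_num))
  · intro x hx y hy σ h
    have h1 := haut x y σ h
    simp only [Finset.mem_insert, Finset.mem_singleton] at hx hy
    rcases hx with rfl | rfl | rfl <;> rcases hy with rfl | rfl | rfl
    · rfl
    · rw [a1, a2] at h1; norm_num at h1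
    · rw [a1, a3] at h1; norm_num at h1
    · rw [a1, a2] at h1; norm_num at h1
    · rfl
    · rw [a2, a3] at h1; norm_num at h1
    · rw [a1, a3] at h1; norm_num at h1
    · rw [a2, a3] at h1; norm_num at h1
    · rfl
  · rw [Finset.sum_insert (by simp [hAB, hAC]), Finset.sum_insert (by simp [hBC]), Finset.sum_singleton, wtA, wtB]
    have := one_le_wt (p := 5) eC
    omega

/-- **The row `HS`, `p = 5`.** -/
theorem row_hs {X : Type*} [Group X] (h : Cfsg.Spor.IsoHS X) : KRow.{u} 5 X := by
  obtain ⟨e⟩ := h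
  obtain ⟨f⟩ := nonempty_Q.1
  exact KRow.congr (f.trans e.symm) row_Q

end Cfsg.Agent.H121.K6.HS

private theorem dce_ccfd357e45d2 : _root_.True := by
  try have : _root_.True := by simp only [_root_.Cfsg.Agent.SporadicA.PermTab.mkPerm.congr_simp]
  exact _root_.True.intro
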